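import Mathlib
import Cfsg.Prelude.Def_Classical
import Cfsg.Prelude.Def_ClassicalGeometry

/-!
# Project SUG (S2412), block [II]: `SU_n(2)`, `n ≥ 5`, is generated by two elements — interface

Field `F` with 4 elements, `q = 2`, form `H x y = Σ x_i y_i²`.  Isotropic vectors are the vectors of
even weight; the only non-trivial unitary transvection with centre `v` is `T_v : x ↦ x + H(x,v) v`.
For a subgroup `K` put `CK K = {v isotropic | T_v ∈ K}`: it is `K`-stable, scalar-stable and closed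
under "third points" `e + H(e,f) f`.  Generators: the cyclic shift `c` and `T_w * d`,
`w = e_0+e_1+e_2+e_3`, `d = diag(α,α,α,α,α²,1,…,1)`.
One closed `Prop` per package; paper proofs in the plan note (topic S2412, tags [II-…]).
-/

set_option autoImplicit false
open scoped Matrix

namespace Cfsg.Agent.Lib.Helper71.SUG2

universe u

/-- The matrix of an element of `SU_n(2)`. -/
abbrev smat {n : ℕ} {F : Type u} [Field F] (g : ↥(Cfsg.SU n F 2)) : Matrix (Fin n) (Fin n) F :=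
  ((g : Matrix.SpecialLinearGroup (Fin n) F) : Matrix (Fin n) (Fin n) F)

/-- The hermitian form `Σ x_i y_i²`. -/
abbrev H (n : ℕ) (F : Type u) [Field F] (x y : Fin n → F) : F := Cfsg.hermForm n F 2 x y

/-- The matrix of the transvection `T_v : x ↦ x + H(x,v) v`. -/
abbrev Tmat (n : ℕ) (F : Type u) [Field F] (v : Fin n → F) : Matrix (Fin n) (Fin n) F :=
  Cfsg.unitaryTransvection n 2 v 1

/-- The standard basis vector `e_i`. -/
abbrev E {n : ℕ} {F : Type u} [Field F] (i : Fin n) : Fin n → F := Pi.single i 1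

/-- `w = e_0 + e_1 + e_2 + e_3`. -/
def wvec (n : ℕ) (F : Type u) [Field F] : Fin n → F := fun i => if i.val < 4 then 1 else 0

/-- The diagonal `(α, α, α, α, α², 1, …, 1)`. -/
def dvec (n : ℕ) {F : Type u} [Field F] (α : F) : Fin n → F :=
  fun i => if i.val < 4 then α else if i.val = 4 then α ^ 2 else 1

/-- `C(K)`: the isotropic vectors `v` whose transvection `T_v` lies in `K`. -/
def CK {n : ℕ} {F : Type u} [Field F] (K : Subgroup ↥(Cfsg.SU n F 2)) : Set (Fin n → F) :=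
  {v | H n F v v = 0 ∧ ∀ g : ↥(Cfsg.SU n F 2), smat g = Tmat n F v → g ∈ K}

open Classical in
/-- The number of non-zero coordinates. -/
noncomputable def weight {n : ℕ} {F : Type u} [Field F] (v : Fin n → F) : ℕ :=
  (Finset.univ.filter (fun i => v i ≠ 0)).card

/-- Closure under zero, scalars and third points `e + H(e,f) f`. -/
structure VBase (n : ℕ) (F : Type u) [Field F] (C : Set (Fin n → F)) : Prop where
  zero : (0 : Fin n → F) ∈ C
  scal : ∀ v ∈ C, ∀ a : F, a ≠ 0 → a • v ∈ C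
  third : ∀ e ∈ C, ∀ f ∈ C, e + H n F e f • f ∈ C

/-- `VBase` plus closure under the cyclic shift (both directions) and under the diagonal `δ`
(both directions). -/
structure VClosed (n : ℕ) (F : Type u) [Field F] (δ : Fin n → F) (C : Set (Fin n → F)) : Prop where
  base : VBase n F C
  rot : ∀ v ∈ C, v ∘ (finRotate n).symm ∈ C
  rotInv : ∀ v ∈ C, v ∘ (finRotate n) ∈ C
  dmul : ∀ v ∈ C, (fun i => δ i * v i) ∈ C
  dinv : ∀ v ∈ C, (fun i => (δ i)⁻¹ * v i) ∈ C

/-! ## Basic lemmas (proved here) -/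

section Basic

variable {F : Type u} [Field F]

theorem H_apply (n : ℕ) (x y : Fin n → F) : H n F x y = ∑ i, x i * y i ^ 2 := rfl

theorem smat_mul {n : ℕ} (g h : ↥(Cfsg.SU n F 2)) : smat (g * h) = smat g * smat h := rfl

theorem smat_one {n : ℕ} : smat (1 : ↥(Cfsg.SU n F 2)) = 1 := rfl

theorem smat_ext {n : ℕ} {g h : ↥(Cfsg.SU n F 2)} (e : smat g = smat h) : g = h :=
  Subtype.ext (Subtype.ext e)

theorem smat_inv_mulVec {n : ℕ} (g : ↥(Cfsg.SU n F 2)) (v : Fin n → F) :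
    smat g⁻¹ *ᵥ (smat g *ᵥ v) = v := by
  rw [Matrix.mulVec_mulVec, ← smat_mul, inv_mul_cancel, smat_one, Matrix.one_mulVec]

theorem smat_mulVec_inv {n : ℕ} (g : ↥(Cfsg.SU n F 2)) (v : Fin n → F) :
    smat g *ᵥ (smat g⁻¹ *ᵥ v) = v := by
  rw [Matrix.mulVec_mulVec, ← smat_mul, mul_inv_cancel, smat_one, Matrix.one_mulVec]

/-- Elements of `SU` preserve the form. -/
theorem H_smat {n : ℕ} (g : ↥(Cfsg.SU n F 2)) (x y : Fin n → F) :
    H n F (smat g *ᵥ x) (smat g *ᵥ y) = H n F x y :=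
  g.2 x y

/-- `T_v x = x + H(x,v) v`. -/
theorem Tmat_mulVec (n : ℕ) (v x : Fin n → F) : Tmat n F v *ᵥ x = x + H n F x v • v := by
  unfold Tmat Cfsg.unitaryTransvection
  rw [Matrix.add_mulVec, Matrix.one_mulVec, one_smul, Matrix.vecMulVec_mulVec, op_smul_eq_smul]
  congr 2
  unfold dotProduct
  apply Finset.sum_congr rfl
  intro i _
  ring

variable [Fintype F]

/-- Characteristic 2. -/
theorem f4_two (hF : Fintype.card F = 2 ^ 2) : (2 : F) = 0 := by
  have h : ((Fintype.card F : ℕ) : F) = 0 := Nat.cast_card_eq_zero F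
  rw [hF] at h
  have h4 : (2 : F) * 2 = 0 := by
    have : ((2 ^ 2 : ℕ) : F) = 2 * 2 := by push_cast; ring
    rw [← this]; exact h
  exact mul_self_eq_zero.mp h4

/-- Non-zero elements are cube roots of unity. -/
theorem f4_cube (hF : Fintype.card F = 2 ^ 2) (x : F) (hx : x ≠ 0) : x ^ 3 = 1 := by
  have h := FiniteField.pow_card_sub_one_eq_one x hx
  rw [hF] at h
  exact h

/-- A primitive cube root of unity. -/
theorem f4_alpha (hF : Fintype.card F = 2 ^ 2) : ∃ α : F, α ^ 2 + α + 1 = 0 := by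
  have h2 : 2 < Fintype.card F := by rw [hF]; norm_num
  obtain ⟨a, b, c, hab, hac, hbc⟩ := Fintype.two_lt_card_iff.mp h2
  have key : ∀ x : F, x ≠ 0 → x ≠ 1 → x ^ 2 + x + 1 = 0 := by
    intro x hx0 hx1
    have h3 := f4_cube hF x hx0
    have h : (x - 1) * (x ^ 2 + x + 1) = 0 := by linear_combination h3
    rcases mul_eq_zero.mp h with h | h
    · exact absurd (sub_eq_zero.mp h) hx1
    · exact h
  by_cases ha0 : a = 0
  · by_cases hb1 : b = 1
    · have hc0 : c ≠ 0 := fun h => hac (ha0.trans h.symm)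
      have hc1 : c ≠ 1 := fun h => hbc (hb1.trans h.symm)
      exact ⟨c, key c hc0 hc1⟩
    · have hb0 : b ≠ 0 := fun h => hab (ha0.trans h.symm)
      exact ⟨b, key b hb0 hb1⟩
  · by_cases ha1 : a = 1
    · by_cases hb0 : b = 0
      · have hc0 : c ≠ 0 := fun h => hbc (hb0.trans h.symm)
        have hc1 : c ≠ 1 := fun h => hac (ha1.trans h.symm)
        exact ⟨c, key c hc0 hc1⟩
      · have hb1 : b ≠ 1 := fun h => hab (ha1.trans h.symm)
        exact ⟨b, key b hb0 hb1⟩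
    · exact ⟨a, key a ha0 ha1⟩

end Basic

/-! ## Packages -/

/-- [II-ISOWT] isotropic = even weight. -/
def PkgIsoWt : Prop :=
  ∀ (F : Type u) [Field F] [Fintype F], Fintype.card F = 2 ^ 2 → ∀ (n : ℕ) (v : Fin n → F),
    H n F v v = 0 ↔ Even (weight v)

/-- [II-WISO] `w` is isotropic. -/
def PkgWIso : Prop :=
  ∀ (F : Type u) [Field F] [Fintype F], Fintype.card F = 2 ^ 2 → ∀ n : ℕ, 4 ≤ n →
    H n F (wvec n F) (wvec n F) = 0

/-- [II-DPROD] the diagonal `dvec` has determinant 1. -/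
def PkgDProd : Prop :=
  ∀ (F : Type u) [Field F] (n : ℕ), 5 ≤ n → ∀ α : F, α ^ 3 = 1 → ∏ i : Fin n, dvec n α i = 1

/-- [II-EX] the transvection `T_v` of an isotropic vector lies in `SU`. -/
def PkgEx : Prop :=
  ∀ (F : Type u) [Field F] [Fintype F], Fintype.card F = 2 ^ 2 → ∀ (n : ℕ) (v : Fin n → F),
    H n F v v = 0 → ∃ g : ↥(Cfsg.SU n F 2), smat g = Tmat n F v

/-- [II-CK] `C(K)` is closed under zero, scalars, third points, and is `K`-stable. -/
def PkgCK : Prop :=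
  ∀ (F : Type u) [Field F] [Fintype F], Fintype.card F = 2 ^ 2 → ∀ (n : ℕ)
    (K : Subgroup ↥(Cfsg.SU n F 2)),
    VBase n F (CK K) ∧ ∀ g ∈ K, ∀ v ∈ CK K, smat g *ᵥ v ∈ CK K

/-- [II-SHIFT] the cyclic shift `e_i ↦ e_{i+1}` lies in `SU`. -/
def PkgShift : Prop :=
  ∀ (F : Type u) [Field F] [Fintype F], Fintype.card F = 2 ^ 2 → ∀ n : ℕ,
    ∃ c : ↥(Cfsg.SU n F 2), ∀ v : Fin n → F, smat c *ᵥ v = v ∘ (finRotate n).symm

/-- [II-DIAG] diagonal matrices of determinant 1 with non-zero entries lie in `SU`. -/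
def PkgDiag : Prop :=
  ∀ (F : Type u) [Field F] [Fintype F], Fintype.card F = 2 ^ 2 → ∀ (n : ℕ) (δ : Fin n → F),
    (∀ i, δ i ≠ 0) → ∏ i, δ i = 1 → ∃ d : ↥(Cfsg.SU n F 2), smat d = Matrix.diagonal δ

/-- [II-BPOW] `T_w` and a diagonal element constant on the support of `w` are powers of their
product. -/
def PkgBPow : Prop :=
  ∀ (F : Type u) [Field F] [Fintype F], Fintype.card F = 2 ^ 2 → ∀ (n : ℕ), 4 ≤ n →
    ∀ (t d : ↥(Cfsg.SU n F 2)) (δ : Fin n → F) (a : F),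
    smat t = Tmat n F (wvec n F) → smat d = Matrix.diagonal δ → (∀ i, δ i ≠ 0) →
    (∀ i : Fin n, i.val < 4 → δ i = a) →
    ∀ K : Subgroup ↥(Cfsg.SU n F 2), t * d ∈ K → t ∈ K ∧ d ∈ K

/-- [II-SUGEN] a subgroup containing all transvections is everything. -/
def PkgSUGen : Prop :=
  ∀ (F : Type u) [Field F] [Fintype F], Fintype.card F = 2 ^ 2 → ∀ n : ℕ, 4 ≤ n →
    ∀ K : Subgroup ↥(Cfsg.SU n F 2), (∀ v : Fin n → F, H n F v v = 0 → v ∈ CK K) → K = ⊤

/-- [II-PAIR] from `w` to a weight-2 vector on the adjacent pair `(4, 5)`. -/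
def PkgPair : Prop :=
  ∀ (F : Type u) [Field F] [Fintype F], Fintype.card F = 2 ^ 2 → ∀ (n : ℕ) (hn : 5 ≤ n) (α : F),
    α ^ 2 + α + 1 = 0 → ∀ C : Set (Fin n → F), VClosed n F (dvec n α) C → wvec n F ∈ C →
    (E ⟨4, by omega⟩ + α ^ 2 • E (finRotate n ⟨4, by omega⟩) : Fin n → F) ∈ C

/-- [II-ADJ] from one adjacent pair to all `e_i + a e_{i+1}`. -/
def PkgAdj : Prop :=
  ∀ (F : Type u) [Field F] [Fintype F], Fintype.card F = 2 ^ 2 → ∀ (n : ℕ) (hn : 5 ≤ n) (α : F),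
    α ^ 2 + α + 1 = 0 → ∀ C : Set (Fin n → F), VClosed n F (dvec n α) C →
    (E ⟨4, by omega⟩ + α ^ 2 • E (finRotate n ⟨4, by omega⟩) : Fin n → F) ∈ C →
    ∀ (i : Fin n) (a : F), a ≠ 0 → (E i + a • E (finRotate n i) : Fin n → F) ∈ C

/-- [II-ALLPAIRS] from adjacent pairs to all pairs. -/
def PkgAllPairs : Prop :=
  ∀ (F : Type u) [Field F] [Fintype F], Fintype.card F = 2 ^ 2 → ∀ n : ℕ, 3 ≤ n →
    ∀ C : Set (Fin n → F), VBase n F C →
    (∀ (i : Fin n) (a : F), a ≠ 0 → (E i + a • E (finRotate n i) : Fin n → F) ∈ C) →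
    ∀ i j : Fin n, i ≠ j → ∀ a : F, a ≠ 0 → (E i + a • E j : Fin n → F) ∈ C

/-- [II-COMB4] all vectors of weight 4. -/
def PkgComb4 : Prop :=
  ∀ (F : Type u) [Field F] [Fintype F], Fintype.card F = 2 ^ 2 → ∀ n : ℕ, 5 ≤ n →
    ∀ C : Set (Fin n → F), VBase n F C →
    (∀ i j : Fin n, i ≠ j → ∀ a : F, a ≠ 0 → (E i + a • E j : Fin n → F) ∈ C) →
    wvec n F ∈ C → ∀ v : Fin n → F, weight v = 4 → v ∈ C

/-- [II-COMBSTEP] all vectors of even weight. -/
def PkgCombStep : Prop :=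
  ∀ (F : Type u) [Field F] [Fintype F], Fintype.card F = 2 ^ 2 → ∀ n : ℕ,
    ∀ C : Set (Fin n → F), VBase n F C →
    (∀ i j : Fin n, i ≠ j → ∀ a : F, a ≠ 0 → (E i + a • E j : Fin n → F) ∈ C) →
    (∀ v : Fin n → F, weight v = 4 → v ∈ C) → ∀ v : Fin n → F, Even (weight v) → v ∈ C

end Cfsg.Agent.Lib.Helper71.SUG2
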