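import Mathlib
import Cfsg.Agent.Lib.Helper71.SUG2.Defs

/-!
# SUG block [II] (q = 2, n ≥ 5): assembly from the packages
-/

set_option autoImplicit false
open scoped Matrix

namespace Cfsg.Agent.Lib.Helper71.SUG2

universe u

/-- Assembly of block [II]. -/
theorem su_q2_two_gen_of (hIsoWt : PkgIsoWt.{u}) (hWIso : PkgWIso.{u}) (hDProd : PkgDProd.{u})
    (hEx : PkgEx.{u}) (hCK : PkgCK.{u}) (hShift : PkgShift.{u}) (hDiag : PkgDiag.{u})
    (hBPow : PkgBPow.{u}) (hSUGen : PkgSUGen.{u}) (hPair : PkgPair.{u}) (hAdj : PkgAdj.{u})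
    (hAllPairs : PkgAllPairs.{u}) (hComb4 : PkgComb4.{u}) (hCombStep : PkgCombStep.{u})
    {F : Type u} [Field F] [Fintype F] (hF : Fintype.card F = 2 ^ 2) (n : ℕ) (hn : 5 ≤ n) :
    ∃ a b : ↥(Cfsg.SU n F 2), Subgroup.closure ({a, b} : Set ↥(Cfsg.SU n F 2)) = ⊤ := by
  obtain ⟨α, hα⟩ := f4_alpha hF
  have h1 : (1 : F) ≠ 0 := one_ne_zero
  have hα0 : α ≠ 0 := by
    intro h
    rw [h] at hα
    apply h1
    simp at hα
  have hα3 : α ^ 3 = 1 := f4_cube hF α hα0
  have hδ0 : ∀ i : Fin n, dvec n α i ≠ 0 := by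
    intro i
    unfold dvec
    split_ifs
    · exact hα0
    · exact pow_ne_zero 2 hα0
    · exact h1
  have hδp : ∏ i : Fin n, dvec n α i = 1 := hDProd F n hn α hα3
  obtain ⟨c, hc⟩ := hShift F hF n
  obtain ⟨d, hd⟩ := hDiag F hF n (dvec n α) hδ0 hδp
  have hw : H n F (wvec n F) (wvec n F) = 0 := hWIso F hF n (by omega)
  obtain ⟨t, ht⟩ := hEx F hF n (wvec n F) hw
  refine ⟨c, t * d, ?_⟩
  set K : Subgroup ↥(Cfsg.SU n F 2) := Subgroup.closure ({c, t * d} : Set ↥(Cfsg.SU n F 2))
    with hK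
  have hcK : c ∈ K := Subgroup.subset_closure (Set.mem_insert _ _)
  have hbK : t * d ∈ K := Subgroup.subset_closure (Set.mem_insert_of_mem _ rfl)
  obtain ⟨htK, hdK⟩ := hBPow F hF n (by omega) t d (dvec n α) α ht hd hδ0
    (fun i hi => by unfold dvec; rw [if_pos hi]) K hbK
  obtain ⟨hbase, hstab⟩ := hCK F hF n K
  have hclosed : VClosed n F (dvec n α) (CK K) := by
    refine ⟨hbase, ?_, ?_, ?_, ?_⟩
    · intro v hv
      rw [← hc v]
      exact hstab c hcK v hv
    · intro v hv
      have h := hstab c⁻¹ (K.inv_mem hcK) v hv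
      have e : smat c⁻¹ *ᵥ v = v ∘ (finRotate n) := by
        have e1 : smat c *ᵥ (v ∘ (finRotate n)) = v := by
          rw [hc]
          funext i
          simp only [Function.comp_apply, Equiv.apply_symm_apply]
        conv_lhs => rw [← e1]
        rw [smat_inv_mulVec]
      rw [← e]
      exact h
    · intro v hv
      have h := hstab d hdK v hv
      have e : smat d *ᵥ v = fun i => dvec n α i * v i := by
        rw [hd]
        funext i
        rw [Matrix.mulVec_diagonal]
      rw [← e]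
      exact h
    · intro v hv
      have h := hstab d⁻¹ (K.inv_mem hdK) v hv
      have e : smat d⁻¹ *ᵥ v = fun i => (dvec n α i)⁻¹ * v i := by
        have e1 : smat d *ᵥ (fun i => (dvec n α i)⁻¹ * v i) = v := by
          rw [hd]
          funext i
          rw [Matrix.mulVec_diagonal, ← mul_assoc, mul_inv_cancel₀ (hδ0 i), one_mul]
        conv_lhs => rw [← e1]
        rw [smat_inv_mulVec]
      rw [← e]
      exact h
  have hwC : wvec n F ∈ CK K := by
    refine ⟨hw, ?_⟩
    intro g hg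
    have : g = t := smat_ext (hg.trans ht.symm)
    rw [this]
    exact htK
  have hpair := hPair F hF n hn α hα (CK K) hclosed hwC
  have hadj := hAdj F hF n hn α hα (CK K) hclosed hpair
  have hall := hAllPairs F hF n (by omega) (CK K) hbase hadj
  have h4 := hComb4 F hF n hn (CK K) hbase hall hwC
  have hev := hCombStep F hF n (CK K) hbase hall h4
  apply hSUGen F hF n (by omega) K
  intro v hv
  exact hev v ((hIsoWt F hF n v).mp hv)

end Cfsg.Agent.Lib.Helper71.SUG2
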